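import Mathlib
import Groth.Prelude.Def_W4c6equivkfinstabCyc

/-!
# Characters killing the cyclotomic kernel
-/

namespace Groth.Agent.CycLoc

open W4c6equivkfinstab

variable (Λ : Type*) [CommRing Λ] (M : Type*) [AddCommGroup M]

theorem quotMap_single (B : AddSubgroup M) (m : M) (r : Λ) :
    quotMap Λ M B (AddMonoidAlgebra.single m r) = AddMonoidAlgebra.single (m : M ⧸ B) r := by
  simp [quotMap, AddMonoidAlgebra.mapDomainRingHom_apply]

theorem quotMap_surjective (B : AddSubgroup M) : Function.Surjective (quotMap Λ M B) := fun y => by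
  induction y using AddMonoidAlgebra.induction_on with
  | of g =>
    obtain ⟨m, hm⟩ := QuotientAddGroup.mk_surjective g
    exact ⟨AddMonoidAlgebra.single m 1, by rw [quotMap_single, hm]; rfl⟩
  | add a b ha hb =>
    obtain ⟨x, rfl⟩ := ha
    obtain ⟨y, rfl⟩ := hb
    exact ⟨x + y, map_add _ x y⟩
  | smul r a ha =>
    obtain ⟨x, rfl⟩ := ha
    exact ⟨AddMonoidAlgebra.single 0 r * x, by
      rw [map_mul, quotMap_single, QuotientAddGroup.mk_zero, Algebra.smul_def]; rfl⟩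

theorem mem_iff_eq_one {K : Type*} [CommRing K] [IsDomain K] (B : AddSubgroup M) [B.FiniteIndex]
    [IsAddCyclic (M ⧸ B)] (φ : AddMonoidAlgebra Λ M →+* K)
    (hker : RingHom.ker (cycQuotMap Λ M B) ≤ RingHom.ker φ) (hn : (B.index : K) ≠ 0) (m : M) :
    φ (AddMonoidAlgebra.single m 1) = 1 ↔ m ∈ B := by
  have hsurj : Function.Surjective (quotMap Λ M B) := quotMap_surjective Λ M B
  have hker' : RingHom.ker (quotMap Λ M B) ≤ RingHom.ker φ := fun x hx =>
    hker (by
      rw [RingHom.mem_ker] at hx ⊢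
      change Ideal.Quotient.mk _ (quotMap Λ M B x) = 0
      rw [hx, map_zero])
  let ψ := RingHom.liftOfSurjective (quotMap Λ M B) hsurj ⟨φ, hker'⟩
  have hψ : ∀ x, ψ (quotMap Λ M B x) = φ x := fun x =>
    RingHom.liftOfRightInverse_comp_apply _ _ _ ⟨φ, hker'⟩ x
  obtain ⟨g, hg⟩ := IsAddCyclic.exists_generator (α := M ⧸ B)
  have hcyc : AddSubgroup.zmultiples g = ⊤ := (AddSubgroup.eq_top_iff' _).2 hg
  have hcard : Nat.card (M ⧸ B) = B.index := rfl
  haveI : NeZero ((Nat.card (M ⧸ B) : ℕ) : K) := ⟨by rw [hcard]; exact hn⟩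
  set ζ := ψ (AddMonoidAlgebra.single g 1) with hζ
  have hprim : IsPrimitiveRoot ζ (Nat.card (M ⧸ B)) := by
    rw [← Polynomial.isRoot_cyclotomic_iff]
    obtain ⟨m₀, rfl⟩ := QuotientAddGroup.mk_surjective g
    have hmem : φ (Polynomial.aeval (AddMonoidAlgebra.single m₀ (1 : Λ))
        (Polynomial.cyclotomic (Nat.card (M ⧸ B)) Λ)) = 0 := by
      refine hker ?_
      rw [RingHom.mem_ker]
      change Ideal.Quotient.mk _ (quotMap Λ M B _) = 0
      refine Ideal.Quotient.eq_zero_iff_mem.2 (Ideal.subset_span ⟨_, hcyc, ?_⟩)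
      rw [Polynomial.aeval_def, Polynomial.hom_eval₂, Polynomial.aeval_def, quotMap_single]
      congr 1
      refine RingHom.ext fun r => ?_
      change quotMap Λ M B (AddMonoidAlgebra.single 0 r) = _
      rw [quotMap_single, QuotientAddGroup.mk_zero]
      rfl
    rw [Polynomial.aeval_def, Polynomial.hom_eval₂, ← Polynomial.eval_map,
      Polynomial.map_cyclotomic] at hmem
    rwa [Polynomial.IsRoot, hζ, ← quotMap_single, hψ]
  rw [← hψ, quotMap_single, ← QuotientAddGroup.eq_zero_iff]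
  haveI : NeZero (Nat.card (M ⧸ B)) := ⟨by rw [hcard]; exact AddSubgroup.FiniteIndex.index_ne_zero⟩
  haveI : Finite (M ⧸ B) := AddSubgroup.finite_quotient_of_finiteIndex
  have hord : addOrderOf g = Nat.card (M ⧸ B) := addOrderOf_eq_card_of_forall_mem_zmultiples hg
  obtain ⟨j, hj⟩ := (mem_multiples_iff_mem_zmultiples.2 (hg (m : M ⧸ B)))
  simp only at hj
  have hpow : (AddMonoidAlgebra.single (m : M ⧸ B) (1 : Λ)) = AddMonoidAlgebra.single g 1 ^ j := by
    rw [AddMonoidAlgebra.single_pow, one_pow, hj]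
  rw [hpow, map_pow, ← hζ, hprim.pow_eq_one_iff_dvd, ← hord, addOrderOf_dvd_iff_nsmul_eq_zero, hj]

/-- Two kernels with no common character are comaximal, so the localisation vanishes. -/
theorem subsingleton_localizedModule {N : Type*} [AddCommGroup N] [Module (AddMonoidAlgebra Λ M) N]
    (B' : AddSubgroup M) (J : Ideal (AddMonoidAlgebra Λ M))
    (hJ : ∀ a ∈ J, ∀ x : N, a • x = 0)
    (h : ∀ 𝔪 : Ideal (AddMonoidAlgebra Λ M), 𝔪.IsMaximal → J ≤ 𝔪 →
      ¬ RingHom.ker (cycQuotMap Λ M B') ≤ 𝔪) :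
    Subsingleton (LocalizedModule (locSubmonoid Λ M B') N) := by
  have htop : J ⊔ RingHom.ker (cycQuotMap Λ M B') = ⊤ := by
    by_contra hne
    obtain ⟨𝔪, hm, hle⟩ := Ideal.exists_le_maximal _ hne
    exact h 𝔪 hm (le_sup_left.trans hle) (le_sup_right.trans hle)
  obtain ⟨a, ha, b, hb, hab⟩ := Submodule.mem_sup.1 ((Ideal.eq_top_iff_one _).1 htop)
  refine LocalizedModule.subsingleton_iff.2 fun x => ⟨a, ?_, hJ a ha x⟩
  change cycQuotMap Λ M B' a = 1
  rw [← map_one (cycQuotMap Λ M B'), ← hab, map_add, RingHom.mem_ker.1 hb, add_zero]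

theorem natCast_ne_zero_of_isUnit {𝔪 : Ideal (AddMonoidAlgebra Λ M)} [𝔪.IsMaximal] {n : ℕ}
    (h : IsUnit (n : Λ)) : (n : AddMonoidAlgebra Λ M ⧸ 𝔪) ≠ 0 := by
  have := h.map ((Ideal.Quotient.mk 𝔪).comp (algebraMap Λ (AddMonoidAlgebra Λ M)))
  rw [map_natCast] at this
  exact this.ne_zero

end Groth.Agent.CycLoc
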